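/-
Characters nonzero on exactly two conjugacy classes (Gagola).

Main results: `TwoClass.supp` (the support is a normal subgroup), `mem_supp`, `faithful`,
`le_of_normal` (unique minimal normal subgroup), `exists_prime`, `card_centralizer`,
`centralizer_sylow`.
-/
import Cfsg.Agent.Lib.Char.Orth

set_option autoImplicit false
set_option linter.style.haveILetI false

namespace Cfsg.Agent.TwoClassChar
open Cfsg
open scoped ComplexConjugate

variable {G : Type*} [Group G] [Finite G]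

theorem deg_eq {χ : G → ℂ} (h : IsIrrCharacter G χ) : χ 1 = (charDegree χ : ℂ) := by
  obtain ⟨n, _, hn⟩ := Char.IsIrrCharacter.exists_degree h
  simp [charDegree, hn]

theorem deg_pos {χ : G → ℂ} (h : IsIrrCharacter G χ) : 0 < charDegree χ := by
  obtain ⟨n, hn0, hn⟩ := Char.IsIrrCharacter.exists_degree h
  simp [charDegree, hn, hn0]

theorem char_conj {χ : G → ℂ} (h : IsIrrCharacter G χ) (g x : G) : χ (x * g * x⁻¹) = χ g :=
  Char.IsIrrCharacter.isClassFunction h g x

theorem char_inv {χ : G → ℂ} (h : IsIrrCharacter G χ) (g : G) : χ g⁻¹ = conj (χ g) :=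
  Char.IsCharacter.apply_inv (Char.IsIrrCharacter.isCharacter h) g

theorem ker_mul {χ : G → ℂ} (h : IsIrrCharacter G χ) {g : G} (hg : χ g = χ 1) (x : G) :
    χ (g * x) = χ x := by
  obtain ⟨n, ρ, hρ, rfl⟩ := h
  have := (Char.character_eq_finrank_iff ρ g).1 (hg.trans (Representation.char_one ρ))
  show LinearMap.trace ℂ _ (ρ (g * x)) = _
  rw [map_mul, this, ← Module.End.one_eq_id, one_mul]
  rfl

theorem row_orth [Fintype G] (χ ψ : IrrCharacter G) [Decidable (χ = ψ)] :
    ∑ g : G, (χ : G → ℂ) g * conj ((ψ : G → ℂ) g) = if χ = ψ then (Nat.card G : ℂ) else 0 := by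
  rw [← Char.card_mul_classInner, Char.classInner_irr χ.2 ψ.2]
  simp [Subtype.ext_iff]

theorem col_orth_self (g : G) : ∑ᶠ χ : IrrCharacter G, (χ : G → ℂ) g * conj ((χ : G → ℂ) g) =
    (Nat.card (Subgroup.centralizer ({g} : Set G)) : ℂ) := by
  classical
  haveI := Fintype.ofFinite G
  haveI := Fintype.ofFinite (IrrCharacter G)
  rw [finsum_eq_sum_of_fintype, Char.column_orth, if_pos (IsConj.refl g)]

theorem col_orth_ne {g h : G} (hne : ¬ IsConj g h) :
    ∑ᶠ χ : IrrCharacter G, (χ : G → ℂ) g * conj ((χ : G → ℂ) h) = 0 := by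
  classical
  haveI := Fintype.ofFinite G
  haveI := Fintype.ofFinite (IrrCharacter G)
  rw [finsum_eq_sum_of_fintype, Char.column_orth, if_neg hne]

theorem one_isIrr : IsIrrCharacter G (fun _ => (1 : ℂ)) := Char.isIrrCharacter_one

theorem card_isConj (c : G) : Nat.card {x : G // IsConj c x} *
    Nat.card (Subgroup.centralizer ({c} : Set G)) = Nat.card G := by
  have e : {x : G // IsConj c x} ≃ MulAction.orbit (ConjAct G) c := Equiv.subtypeEquivRight
    (fun x => by
      rw [ConjAct.orbit_eq_carrier_conjClasses, ConjClasses.mem_carrier_iff_mk_eq,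
        ConjClasses.mk_eq_mk_iff_isConj]
      exact isConj_comm)
  haveI : Finite (ConjAct G) := Finite.of_equiv G ConjAct.toConjAct.toEquiv
  haveI := Fintype.ofFinite (ConjAct G)
  haveI := Fintype.ofFinite (MulAction.orbit (ConjAct G) c)
  haveI := Fintype.ofFinite (MulAction.stabilizer (ConjAct G) c)
  have := MulAction.card_orbit_mul_card_stabilizer_eq_card_group (ConjAct G) c
  simp only [← Nat.card_eq_fintype_card] at this
  rw [Nat.card_congr e, Subgroup.centralizer_eq_comap_stabilizer,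
    ← Nat.card_congr (ConjAct.toConjAct (G := G)).toEquiv.symm, ← this]
  congr 1

theorem centralizer_ne_zero (c : G) : Nat.card (Subgroup.centralizer ({c} : Set G)) ≠ 0 :=
  Nat.card_pos.ne'

/-- The character `χ` of the group of order > 2 is nonzero on exactly two classes. -/
structure TwoClass (χ : IrrCharacter G) : Prop where
  two_lt : 2 < Nat.card G
  two : Nat.card {C : ConjClasses G // ∃ g ∈ C.carrier, (χ : G → ℂ) g ≠ 0} = 2

variable {χ : IrrCharacter G}

theorem TwoClass.exists_elt (h : TwoClass χ) :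
    ∃ c : G, c ≠ 1 ∧ ∀ g : G, (χ : G → ℂ) g ≠ 0 ↔ g = 1 ∨ IsConj c g := by
  obtain ⟨a, b, hab, hun⟩ := Nat.card_eq_two_iff.1 h.two
  have h1 : (χ : G → ℂ) 1 ≠ 0 := by
    rw [deg_eq χ.2]; exact Nat.cast_ne_zero.2 (deg_pos χ.2).ne'
  let A : {C : ConjClasses G // ∃ g ∈ C.carrier, (χ : G → ℂ) g ≠ 0} :=
    ⟨ConjClasses.mk 1, 1, ConjClasses.mem_carrier_mk, h1⟩
  obtain ⟨B, hB, huniq⟩ : ∃ B, B ≠ A ∧ ∀ D, D = A ∨ D = B := by
    have mem : ∀ D, D = a ∨ D = b := by
      intro D
      have := Set.mem_univ D; rw [← hun] at this; simpa using this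
    rcases mem A with hA | hA
    · exact ⟨b, by rw [hA]; exact hab.symm, fun D => hA ▸ mem D⟩
    · exact ⟨a, by rw [hA]; exact hab, fun D => hA ▸ (mem D).symm⟩
  obtain ⟨c, hc, hχc⟩ := B.2
  have hBc : B.1 = ConjClasses.mk c := (ConjClasses.mem_carrier_iff_mk_eq.1 hc).symm
  refine ⟨c, ?_, fun g => ⟨fun hg => ?_, ?_⟩⟩
  · rintro rfl; exact hB (Subtype.ext hBc)
  · rcases huniq ⟨ConjClasses.mk g, g, ConjClasses.mem_carrier_mk, hg⟩ with e | e
    · left; exact isConj_one_left.1 (ConjClasses.mk_eq_mk_iff_isConj.1 (congrArg Subtype.val e))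
    · right
      exact (ConjClasses.mk_eq_mk_iff_isConj.1 ((congrArg Subtype.val e).trans hBc)).symm
  · rintro (rfl | hg)
    · exact h1
    · obtain ⟨x, rfl⟩ := isConj_iff.1 hg
      rwa [char_conj χ.2]

noncomputable def TwoClass.elt (h : TwoClass χ) : G := h.exists_elt.choose

theorem TwoClass.elt_ne_one (h : TwoClass χ) : h.elt ≠ 1 := h.exists_elt.choose_spec.1

theorem TwoClass.support (h : TwoClass χ) (g : G) :
    (χ : G → ℂ) g ≠ 0 ↔ g = 1 ∨ IsConj h.elt g := h.exists_elt.choose_spec.2 g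

theorem TwoClass.not_one (h : TwoClass χ) : (χ : G → ℂ) ≠ fun _ => 1 := by
  intro e
  have hall : ∀ g : G, g = 1 ∨ IsConj h.elt g := fun g => (h.support g).1 (by simp [e])
  have e1 : Nat.card {x : G // IsConj h.elt x} + 1 = Nat.card G := by
    classical
    have : {x : G // IsConj h.elt x} ≃ {x : G // ¬ x = 1} := Equiv.subtypeEquivRight
      (fun x => ⟨fun hx e' => h.elt_ne_one (isConj_one_left.1 (e' ▸ hx)),
        fun hx => (hall x).resolve_left hx⟩)
    have this := this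
    haveI hF := Fintype.ofFinite G
    rw [Nat.card_congr this, Nat.card_eq_fintype_card, Nat.card_eq_fintype_card,
      Fintype.card_subtype_compl, Fintype.card_subtype_eq]
    have := h.two_lt; rw [Nat.card_eq_fintype_card] at this; omega
  have e2 := card_isConj h.elt
  have h2 := h.two_lt
  have : Nat.card {x : G // IsConj h.elt x} ∣ 1 := by
    refine (Nat.dvd_add_right (dvd_refl _)).1 ?_
    rw [e1]; exact ⟨_, e2.symm⟩
  rw [Nat.dvd_one] at this
  omega

/-- The common degree data: `χ 1 + m * χ c = 0`, where `m` is the class size. -/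
theorem TwoClass.sum_eq [Fintype G] (h : TwoClass χ) (f : G → ℂ)
    (hf : ∀ g x : G, f (x * g * x⁻¹) = f g) :
    ∑ g : G, (χ : G → ℂ) g * f g = (χ : G → ℂ) 1 * f 1 +
      Nat.card {x : G // IsConj h.elt x} * ((χ : G → ℂ) h.elt * f h.elt) := by
  classical
  rw [← Finset.add_sum_erase _ _ (Finset.mem_univ (1 : G))]
  congr 1
  rw [Nat.card_eq_fintype_card, Fintype.card_subtype, ← nsmul_eq_mul, ← Finset.sum_const,
    ← Finset.sum_subset (s₂ := Finset.univ.erase (1 : G))
      (s₁ := Finset.univ.filter fun x => IsConj h.elt x)]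
  · refine Finset.sum_congr rfl fun x hx => ?_
    obtain ⟨y, rfl⟩ := isConj_iff.1 (Finset.mem_filter.1 hx).2
    rw [char_conj χ.2, hf]
  · intro x hx
    refine Finset.mem_erase.2 ⟨fun e => h.elt_ne_one ?_, Finset.mem_univ _⟩
    exact isConj_one_left.1 (e ▸ (Finset.mem_filter.1 hx).2)
  · intro x hx hx'
    have : (χ : G → ℂ) x = 0 := by
      by_contra h0
      rcases (h.support x).1 h0 with e | e
      · exact (Finset.mem_erase.1 hx).1 e
      · exact hx' (Finset.mem_filter.2 ⟨Finset.mem_univ _, e⟩)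
    simp [this]

theorem TwoClass.elt_value [Fintype G] (h : TwoClass χ) :
    (χ : G → ℂ) 1 + Nat.card {x : G // IsConj h.elt x} * (χ : G → ℂ) h.elt = 0 := by
  classical
  have := row_orth χ ⟨fun _ => 1, one_isIrr⟩
  rw [if_neg (fun e => h.not_one (congrArg Subtype.val e))] at this
  have e := h.sum_eq (fun _ => conj (1 : ℂ)) (fun _ _ => rfl)
  simp only [map_one, mul_one] at e this
  rwa [e] at this

theorem TwoClass.other_value (h : TwoClass χ) {ψ : IrrCharacter G} (hψ : ψ ≠ χ) :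
    (ψ : G → ℂ) h.elt = (ψ : G → ℂ) 1 := by
  classical
  haveI := Fintype.ofFinite G
  have := row_orth χ ψ
  rw [if_neg hψ.symm, h.sum_eq (fun g => conj ((ψ : G → ℂ) g))
    (fun g x => by rw [char_conj ψ.2])] at this
  have e := h.elt_value
  have hd : (χ : G → ℂ) 1 ≠ 0 := (h.support 1).2 (Or.inl rfl)
  have key : (χ : G → ℂ) 1 * (conj ((ψ : G → ℂ) 1) - conj ((ψ : G → ℂ) h.elt)) = 0 := by
    linear_combination this - conj ((ψ : G → ℂ) h.elt) * e
  have := (mul_eq_zero.1 key).resolve_left hd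
  exact star_injective (sub_eq_zero.1 this).symm

theorem TwoClass.char_elt_ne (h : TwoClass χ) : (χ : G → ℂ) h.elt ≠ (χ : G → ℂ) 1 := by
  intro e
  haveI := Fintype.ofFinite G
  have := h.elt_value
  rw [e, deg_eq χ.2] at this
  have : ((charDegree (χ : G → ℂ) * (1 + Nat.card {x : G // IsConj h.elt x}) : ℕ) : ℂ) = 0 := by
    push_cast; linear_combination this
  rw [Nat.cast_eq_zero, mul_eq_zero] at this
  rcases this with h0 | h0
  · exact (deg_pos χ.2).ne' h0
  · omega

theorem TwoClass.faithful (h : TwoClass χ) {g : G} (hg : (χ : G → ℂ) g = (χ : G → ℂ) 1) :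
    g = 1 := by
  have h1 : (χ : G → ℂ) g ≠ 0 := hg ▸ (h.support 1).2 (Or.inl rfl)
  refine ((h.support g).1 h1).resolve_right fun e => ?_
  obtain ⟨x, rfl⟩ := isConj_iff.1 e
  exact h.char_elt_ne (by rwa [char_conj χ.2] at hg)

/-- Sum of squares of the other degrees is positive. -/
theorem others_ne_zero [Fintype (IrrCharacter G)] [DecidableEq (IrrCharacter G)]
    (χ : IrrCharacter G) (hχ : (χ : G → ℂ) ≠ fun _ => 1) (g : G) :
    ∑ ψ ∈ Finset.univ.erase χ, (ψ : G → ℂ) g * conj ((ψ : G → ℂ) g) ≠ 0 := by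
  simp only [Complex.mul_conj, ← Complex.ofReal_sum]
  refine Complex.ofReal_ne_zero.2 (Finset.sum_pos' (fun ψ _ => Complex.normSq_nonneg _)
    ⟨⟨fun _ => 1, one_isIrr⟩, ?_, by simp⟩).ne'
  exact Finset.mem_erase.2 ⟨fun e => hχ (congrArg Subtype.val e).symm, Finset.mem_univ _⟩

theorem TwoClass.ker_others (h : TwoClass χ) {g : G}
    (hg : ∀ ψ : IrrCharacter G, ψ ≠ χ → (ψ : G → ℂ) g = (ψ : G → ℂ) 1) :
    g = 1 ∨ IsConj h.elt g := by
  classical
  haveI := Fintype.ofFinite (IrrCharacter G)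
  by_contra hne
  have hz : (χ : G → ℂ) g = 0 := by_contra fun h0 => hne ((h.support g).1 h0)
  have hn : ¬ IsConj g 1 := fun e => hne (Or.inl (isConj_one_left.1 e))
  have := col_orth_ne hn
  rw [finsum_eq_sum_of_fintype, ← Finset.add_sum_erase _ _ (Finset.mem_univ χ), hz, zero_mul,
    zero_add, Finset.sum_congr rfl (g := fun ψ : IrrCharacter G =>
      (ψ : G → ℂ) 1 * conj ((ψ : G → ℂ) 1))
      (fun ψ hψ => by rw [hg ψ (Finset.mem_erase.1 hψ).1])] at this
  exact others_ne_zero χ h.not_one 1 this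

/-- The support of `χ`, a normal subgroup. -/
def TwoClass.supp (_h : TwoClass χ) : Subgroup G where
  carrier := {g | ∀ ψ : IrrCharacter G, ψ ≠ χ → (ψ : G → ℂ) g = (ψ : G → ℂ) 1}
  one_mem' := fun _ _ => rfl
  mul_mem' := fun {a b} ha hb ψ hψ => by rw [ker_mul ψ.2 (ha ψ hψ), hb ψ hψ]
  inv_mem' := fun {a} ha ψ hψ => by
    rw [char_inv ψ.2, ha ψ hψ, deg_eq ψ.2, Complex.conj_natCast]

theorem TwoClass.mem_supp (h : TwoClass χ) {g : G} :
    g ∈ h.supp ↔ g = 1 ∨ IsConj h.elt g := by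
  refine ⟨h.ker_others, ?_⟩
  rintro (rfl | e) ψ hψ
  · rfl
  · obtain ⟨x, rfl⟩ := isConj_iff.1 e
    rw [char_conj ψ.2, h.other_value hψ]

theorem TwoClass.mem_supp_iff_ne (h : TwoClass χ) {g : G} :
    g ∈ h.supp ↔ (χ : G → ℂ) g ≠ 0 := by rw [h.mem_supp, h.support]

theorem TwoClass.elt_mem (h : TwoClass χ) : h.elt ∈ h.supp :=
  h.mem_supp.2 (Or.inr (IsConj.refl _))

theorem TwoClass.eq_supp (h : TwoClass χ) {N : Subgroup G}
    (hN : ∀ g : G, g ∈ N ↔ (χ : G → ℂ) g ≠ 0) : N = h.supp :=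
  SetLike.ext fun g => by rw [hN, h.mem_supp_iff_ne]

instance TwoClass.supp_normal (h : TwoClass χ) : h.supp.Normal :=
  ⟨fun g hg x => h.mem_supp_iff_ne.2 (by rw [char_conj χ.2]; exact h.mem_supp_iff_ne.1 hg)⟩

theorem TwoClass.conj_in_supp (h : TwoClass χ) {x y : G} (hx : x ∈ h.supp) (hy : y ∈ h.supp)
    (hx1 : x ≠ 1) (hy1 : y ≠ 1) : IsConj x y :=
  ((h.mem_supp.1 hx).resolve_left hx1).symm.trans ((h.mem_supp.1 hy).resolve_left hy1)

theorem TwoClass.le_of_normal (h : TwoClass χ) {K : Subgroup G} [hK : K.Normal] (hK1 : K ≠ ⊥) :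
    h.supp ≤ K := by
  classical
  suffices hc : h.elt ∈ K by
    intro g hg
    rcases h.mem_supp.1 hg with rfl | e
    · exact one_mem _
    · obtain ⟨x, rfl⟩ := isConj_iff.1 e; exact hK.conj_mem _ hc x
  by_contra hc
  obtain ⟨k, hk, hk1⟩ := (Subgroup.bot_or_exists_ne_one K).resolve_left hK1
  have hkz : (χ : G → ℂ) k = 0 := by
    by_contra h0
    obtain ⟨x, hx⟩ := isConj_iff.1 (((h.support k).1 h0).resolve_left hk1).symm
    exact hc (hx ▸ hK.conj_mem _ hk x)
  have hn : ¬ IsConj (h.elt * k) k := by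
    intro e
    obtain ⟨x, hx⟩ := isConj_iff.1 e
    have hk' : x⁻¹ * k * x⁻¹⁻¹ ∈ K := hK.conj_mem _ hk x⁻¹
    have : h.elt = (x⁻¹ * k * x⁻¹⁻¹) * k⁻¹ := by
      have e2 : x⁻¹ * k * x⁻¹⁻¹ = h.elt * k := by nth_rw 1 [← hx]; group
      rw [e2]; group
    exact hc (this ▸ mul_mem hk' (inv_mem hk))
  haveI := Fintype.ofFinite (IrrCharacter G)
  have := col_orth_ne hn
  rw [finsum_eq_sum_of_fintype, ← Finset.add_sum_erase _ _ (Finset.mem_univ χ), hkz, map_zero,
    mul_zero, zero_add, Finset.sum_congr rfl (g := fun ψ : IrrCharacter G =>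
      (ψ : G → ℂ) k * conj ((ψ : G → ℂ) k))
      (fun ψ hψ => by rw [ker_mul ψ.2 (h.other_value (Finset.mem_erase.1 hψ).1)])] at this
  exact others_ne_zero χ h.not_one k this

theorem TwoClass.supp_ne_bot (h : TwoClass χ) : h.supp ≠ ⊥ :=
  fun e => h.elt_ne_one (by simpa [e] using h.elt_mem)

/-- The prime of the support. -/
theorem TwoClass.exists_prime (h : TwoClass χ) :
    ∃ p : ℕ, p.Prime ∧ IsElementaryAbelian p h.supp := by
  have hn : orderOf h.elt ≠ 1 := orderOf_eq_one_iff.not.2 h.elt_ne_one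
  obtain ⟨p, hp, hdvd⟩ := Nat.exists_prime_and_dvd hn
  haveI := Fact.mk hp
  have hord : ∀ x ∈ h.supp, x ≠ 1 → orderOf x = p := by
    intro x hx hx1
    have ho := orderOf_pow_orderOf_div (orderOf_pos h.elt).ne' hdvd
    have hy1 : h.elt ^ (orderOf h.elt / p) ≠ 1 := by
      intro e; rw [e, orderOf_one] at ho; exact hp.ne_one ho.symm
    obtain ⟨g, rfl⟩ := isConj_iff.1 (h.conj_in_supp (pow_mem h.elt_mem _) hx hy1 hx1)
    exact (orderOf_injective (MulAut.conj g).toMonoidHom (MulEquiv.injective _) _).trans ho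
  refine ⟨p, hp, ?_, fun x hx => ?_⟩
  · have hP : IsPGroup p h.supp := fun x => by
      refine ⟨1, ?_⟩
      by_cases hx : (x : G) = 1
      · apply Subtype.ext; simp [hx]
      · apply Subtype.ext
        simp [← hord _ x.2 hx, pow_orderOf_eq_one]
    haveI : Nontrivial h.supp := (Subgroup.nontrivial_iff_ne_bot _).2 h.supp_ne_bot
    haveI := hP.center_nontrivial
    obtain ⟨⟨z, hz⟩, hz1⟩ := exists_ne (1 : Subgroup.center h.supp)
    refine ⟨⟨fun x y => ?_⟩⟩
    by_cases hx : (x : G) = 1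
    · apply Subtype.ext; simp [hx]
    obtain ⟨g, hg⟩ := isConj_iff.1 (h.conj_in_supp z.2 x.2
      (fun e => hz1 (Subtype.ext (Subtype.ext e))) hx)
    have hy := (Subgroup.mem_center_iff.1 hz)
      ⟨g⁻¹ * y * g⁻¹⁻¹, h.supp_normal.conj_mem _ y.2 g⁻¹⟩
    apply Subtype.ext
    have hy' := congrArg (fun u : h.supp => g * (u : G) * g⁻¹) hy
    simp only [Subgroup.coe_mul] at hy' ⊢
    rw [← hg]
    group at hy' ⊢
    exact hy'.symm
  · by_cases hx1 : x = 1
    · simp [hx1]
    · rw [← hord x hx hx1]; exact pow_orderOf_eq_one x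

theorem TwoClass.card_supp (h : TwoClass χ) :
    Nat.card h.supp = Nat.card {x : G // IsConj h.elt x} + 1 := by
  classical
  haveI := Fintype.ofFinite G
  have e : Nat.card h.supp = Nat.card {x : G // x = 1 ∨ IsConj h.elt x} :=
    Nat.card_congr (Equiv.subtypeEquivRight fun x => h.mem_supp)
  rw [e, Nat.card_eq_fintype_card, Nat.card_eq_fintype_card, Fintype.card_subtype_or_disjoint,
    Fintype.card_subtype_eq, add_comm]
  rw [disjoint_iff_inf_le]
  rintro x ⟨h1, h2⟩
  exact h.elt_ne_one (isConj_one_left.1 (show IsConj h.elt 1 from h1 ▸ h2))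

theorem TwoClass.card_eq (h : TwoClass χ) :
    (Nat.card G : ℂ) = Nat.card {x : G // IsConj h.elt x} * Nat.card h.supp *
      ((χ : G → ℂ) h.elt) ^ 2 := by
  classical
  haveI := Fintype.ofFinite G
  have hr := row_orth χ χ
  rw [if_pos rfl, h.sum_eq (fun g => conj ((χ : G → ℂ) g))
    (fun g x => by rw [char_conj χ.2])] at hr
  have e := h.elt_value
  have e' := congrArg conj e
  rw [map_add, map_mul, map_zero, deg_eq χ.2, Complex.conj_natCast, Complex.conj_natCast] at e'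
  rw [deg_eq χ.2] at e hr
  rw [Complex.conj_natCast] at hr
  have hm : (Nat.card {x : G // IsConj h.elt x} : ℂ) ≠ 0 := by
    refine Nat.cast_ne_zero.2 ?_
    haveI : Nonempty {x : G // IsConj h.elt x} := ⟨⟨h.elt, IsConj.refl _⟩⟩
    exact Nat.card_pos.ne'
  have hreal : conj ((χ : G → ℂ) h.elt) = (χ : G → ℂ) h.elt :=
    mul_left_cancel₀ hm (by linear_combination e' - e)
  rw [h.card_supp, ← hr, hreal]
  push_cast
  linear_combination ((charDegree (χ : G → ℂ) : ℂ) - (Nat.card {x : G // IsConj h.elt x} : ℂ) *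
    (χ : G → ℂ) h.elt) * e

theorem TwoClass.card_centralizer (h : TwoClass χ) :
    (Nat.card (Subgroup.centralizer ({h.elt} : Set G)) : ℂ) =
      Nat.card h.supp * ((χ : G → ℂ) h.elt) ^ 2 := by
  have hm : (Nat.card {x : G // IsConj h.elt x} : ℂ) ≠ 0 := by
    refine Nat.cast_ne_zero.2 ?_
    haveI : Nonempty {x : G // IsConj h.elt x} := ⟨⟨h.elt, IsConj.refl _⟩⟩
    exact Nat.card_pos.ne'
  refine mul_left_cancel₀ hm ?_
  rw [← mul_assoc, ← h.card_eq, ← card_isConj h.elt, Nat.cast_mul]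

/-- Averaging a character over a subgroup centralized by `c` gives an algebraic integer. -/
theorem avg_isIntegral {χ : G → ℂ} (hχ : IsIrrCharacter G χ) (c : G) (Q : Subgroup G) [Fintype Q]
    (hQ : Q ≤ Subgroup.centralizer ({c} : Set G)) :
    IsIntegral ℤ ((Nat.card Q : ℂ)⁻¹ * ∑ q : Q, χ (c * q)) := by
  classical
  haveI := Fintype.ofFinite G
  obtain ⟨n, ρ, hρ, rfl⟩ := hχ
  have hQ0 : (Fintype.card Q : ℂ) ≠ 0 := by simp
  set E : Module.End ℂ (Fin n → ℂ) := (Fintype.card Q : ℂ)⁻¹ • ∑ q : Q, ρ q with hE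
  have hc : Commute (ρ c) E := by
    refine Commute.smul_right (Commute.sum_right _ _ _ fun q _ => ?_) _
    show ρ c * ρ q = ρ q * ρ c
    rw [← map_mul, ← map_mul, (Subgroup.mem_centralizer_iff.1 (hQ q.2) c rfl)]
  have hEq : ∀ q : Q, ρ q * E = E := by
    intro q
    rw [hE, mul_smul_comm, Finset.mul_sum]
    congr 1
    exact Fintype.sum_equiv (Equiv.mulLeft q) _ _ (fun r => by rw [← map_mul]; rfl)
  have hEE : IsIdempotentElem E := by
    show E * E = E
    nth_rw 1 [hE]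
    rw [smul_mul_assoc, Finset.sum_mul, Finset.sum_congr rfl (fun q _ => hEq q),
      Finset.sum_const, Finset.card_univ, ← Nat.cast_smul_eq_nsmul ℂ, smul_smul,
      inv_mul_cancel₀ hQ0, one_smul]
  set T := ρ c * E with hT
  have hTp : ∀ k : ℕ, T ^ (k + 1) = ρ c ^ (k + 1) * E := by
    intro k
    rw [hT, hc.mul_pow, hEE.pow_succ_eq]
  have hT' : T ^ (orderOf c + 1) = T := by
    rw [hTp, pow_succ, ← map_pow, pow_orderOf_eq_one, map_one, one_mul]
  have htr : (Nat.card Q : ℂ)⁻¹ * ∑ q : Q, ρ.character (c * q) = LinearMap.trace ℂ _ T := by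
    rw [hT, hE, mul_smul_comm, map_smul, smul_eq_mul, Finset.mul_sum (a := ρ c), map_sum,
      Nat.card_eq_fintype_card]
    simp only [← map_mul]
    rfl
  rw [htr, Module.End.trace_eq_sum_roots_charpoly_of_splits (IsAlgClosed.splits _)]
  refine IsIntegral.multiset_sum fun z hz => ?_
  rw [Polynomial.mem_roots T.charpoly_monic.ne_zero] at hz
  have hev : Module.End.HasEigenvalue T z := by
    rw [Module.End.hasEigenvalue_iff_isRoot_charpoly]; exact hz
  obtain ⟨v, hv⟩ := hev.exists_hasEigenvector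
  have hz' : z ^ (orderOf c + 1) = z := by
    have h1 := hv.pow_apply (orderOf c + 1)
    rw [hT', hv.apply_eq_smul] at h1
    exact (smul_left_injective ℂ hv.2 h1).symm
  refine ⟨Polynomial.X ^ (orderOf c + 1) - Polynomial.X, ?_, by simp [hz']⟩
  exact Polynomial.monic_X_pow_sub (by
    rw [Polynomial.degree_X]; exact_mod_cast Nat.succ_lt_succ (orderOf_pos c))

theorem TwoClass.card_dvd (h : TwoClass χ) (Q : Subgroup G)
    (hQ : Q ≤ Subgroup.centralizer ({h.elt} : Set G))
    (hQN : ∀ q ∈ Q, q ∈ h.supp → q = 1) :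
    ∃ e : ℤ, (χ : G → ℂ) h.elt = (Nat.card Q : ℂ) * e := by
  classical
  haveI := Fintype.ofFinite Q
  have hs : ∑ q : Q, (χ : G → ℂ) (h.elt * q) = (χ : G → ℂ) h.elt := by
    rw [Finset.sum_eq_single (1 : Q)]
    · simp
    · intro q _ hq
      by_contra h0
      have := mul_mem (inv_mem h.elt_mem) (h.mem_supp_iff_ne.2 h0)
      rw [inv_mul_cancel_left] at this
      exact hq (Subtype.ext (hQN q q.2 this))
    · simp
  have hint := avg_isIntegral χ.2 h.elt Q hQ
  rw [hs] at hint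
  -- the value is rational
  haveI := Fintype.ofFinite G
  have hrat : ∃ r : ℚ, (r : ℂ) = (Nat.card Q : ℂ)⁻¹ * (χ : G → ℂ) h.elt := by
    refine ⟨(Nat.card Q : ℚ)⁻¹ * (-(charDegree (χ : G → ℂ)) /
      Nat.card {x : G // IsConj h.elt x}), ?_⟩
    have e := h.elt_value
    rw [deg_eq χ.2] at e
    have hm : (Nat.card {x : G // IsConj h.elt x} : ℂ) ≠ 0 := by
      refine Nat.cast_ne_zero.2 ?_
      haveI : Nonempty {x : G // IsConj h.elt x} := ⟨⟨h.elt, IsConj.refl _⟩⟩
      exact Nat.card_pos.ne'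
    push_cast
    congr 1
    field_simp
    linear_combination -e
  obtain ⟨r, hr⟩ := hrat
  rw [← hr, ← eq_ratCast (algebraMap ℚ ℂ) r,
    isIntegral_algebraMap_iff (algebraMap ℚ ℂ).injective] at hint
  obtain ⟨e, he⟩ := IsIntegrallyClosed.isIntegral_iff.1 hint
  refine ⟨e, ?_⟩
  rw [← he] at hr
  have hQ0 : (Nat.card Q : ℂ) ≠ 0 := by simp
  field_simp at hr
  simp at hr
  rw [Nat.card_eq_fintype_card]
  linear_combination -hr

theorem TwoClass.centralizer_isPGroup (h : TwoClass χ) (p : ℕ) [hp : Fact p.Prime]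
    (hNp : IsPGroup p h.supp) : IsPGroup p (Subgroup.centralizer ({h.elt} : Set G)) := by
  obtain ⟨e, he⟩ := h.card_dvd ⊥ bot_le (fun q hq _ => by simpa using hq)
  simp only [Subgroup.card_bot, Nat.cast_one, one_mul] at he
  have hC : Nat.card (Subgroup.centralizer ({h.elt} : Set G)) =
      Nat.card h.supp * e.natAbs ^ 2 := by
    have := h.card_centralizer
    rw [he] at this
    have h2 : ((Nat.card (Subgroup.centralizer ({h.elt} : Set G)) : ℤ) : ℂ) =
        (((Nat.card h.supp * e.natAbs ^ 2 : ℕ) : ℤ) : ℂ) := by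
      push_cast
      rw [this, ← Int.cast_pow, ← Int.cast_pow, sq_abs]
    exact_mod_cast h2
  have he0 : e.natAbs ≠ 0 := by
    intro h0; rw [h0] at hC; simp at hC; exact centralizer_ne_zero _ hC
  rw [IsPGroup.iff_card] at hNp ⊢
  obtain ⟨s, hs⟩ := hNp
  refine ⟨_, Nat.eq_prime_pow_of_unique_prime_dvd (Nat.card_pos.ne') fun {r} hr hrd => ?_⟩
  by_contra hrp
  haveI := Fact.mk hr
  have hre : r ∣ e.natAbs := by
    rw [hC, hs] at hrd
    rcases (Nat.Prime.dvd_mul hr).1 hrd with d | d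
    · exact absurd ((Nat.prime_dvd_prime_iff_eq hr hp.out).1 (hr.dvd_of_dvd_pow d)) hrp
    · exact hr.dvd_of_dvd_pow d
  let v := e.natAbs.factorization r
  have hv : r ^ (2 * v) ∣ Nat.card (Subgroup.centralizer ({h.elt} : Set G)) := by
    rw [hC, mul_comm 2 v, pow_mul]
    exact dvd_mul_of_dvd_right (pow_dvd_pow_of_dvd (Nat.ordProj_dvd _ _) 2) _
  obtain ⟨Q, hQ⟩ := Sylow.exists_subgroup_card_pow_prime r hv
  set Q' := Q.map (Subgroup.centralizer ({h.elt} : Set G)).subtype with hQ'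
  have hQc : Nat.card Q' = r ^ (2 * v) := by
    rw [hQ', Subgroup.card_map_of_injective (Subgroup.subtype_injective _), hQ]
  obtain ⟨e', he'⟩ := h.card_dvd Q' (Subgroup.map_subtype_le _) (fun q hq hqN => by
    rw [← orderOf_eq_one_iff]
    have h1 : orderOf q ∣ r ^ (2 * v) := hQc ▸ (Subgroup.orderOf_dvd_natCard _ hq)
    have h2 : orderOf q ∣ p ^ s := hs ▸ (Subgroup.orderOf_dvd_natCard _ hqN)
    have hcop : Nat.Coprime (r ^ (2 * v)) (p ^ s) :=
      Nat.Coprime.pow _ _ ((Nat.coprime_primes hr hp.out).2 hrp)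
    exact Nat.eq_one_of_dvd_coprimes hcop h1 h2)
  rw [he, hQc] at he'
  have hd : ((r ^ (2 * v) : ℕ) : ℤ) ∣ e := ⟨e', by exact_mod_cast he'⟩
  rw [Int.natCast_dvd] at hd
  have h2v := (Nat.Prime.pow_dvd_iff_le_factorization hr he0).1 hd
  have hv1 : 0 < v := hr.factorization_pos_of_dvd he0 hre
  omega

theorem TwoClass.centralizer_sylow (h : TwoClass χ) (p : ℕ) [hp : Fact p.Prime]
    (hNp : IsPGroup p h.supp) {x : G} (hx : x ∈ h.supp) (hx1 : x ≠ 1) :
    IsPGroup p (Subgroup.centralizer ({x} : Set G)) ∧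
      ∃ P : Sylow p G, Subgroup.centralizer ({x} : Set G) = P := by
  have hcl : {y : G // IsConj x y} ≃ {y : G // IsConj h.elt y} :=
    Equiv.subtypeEquivRight fun y => ⟨(h.conj_in_supp h.elt_mem hx h.elt_ne_one hx1).trans,
      (h.conj_in_supp hx h.elt_mem hx1 h.elt_ne_one).trans⟩
  have hm0 : 0 < Nat.card {y : G // IsConj h.elt y} := by
    haveI : Nonempty {y : G // IsConj h.elt y} := ⟨⟨h.elt, IsConj.refl _⟩⟩
    exact Nat.card_pos
  have hcard : Nat.card (Subgroup.centralizer ({x} : Set G)) =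
      Nat.card (Subgroup.centralizer ({h.elt} : Set G)) := by
    have e1 := card_isConj x
    rw [Nat.card_congr hcl, ← card_isConj h.elt] at e1
    exact Nat.eq_of_mul_eq_mul_left hm0 e1
  have hP : IsPGroup p (Subgroup.centralizer ({x} : Set G)) := by
    have := h.centralizer_isPGroup p hNp
    rw [IsPGroup.iff_card] at this ⊢
    rwa [hcard]
  refine ⟨hP, ?_⟩
  obtain ⟨P, hle⟩ := hP.exists_le_sylow
  refine ⟨P, Subgroup.eq_of_le_of_card_ge hle (le_of_eq ?_)⟩
  obtain ⟨s, hs⟩ := IsPGroup.iff_card.1 hNp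
  obtain ⟨t, ht⟩ := IsPGroup.iff_card.1 hP
  have hs0 : s ≠ 0 := by
    rintro rfl; exact h.supp_ne_bot (Subgroup.card_eq_one.1 (by simpa using hs))
  have hpm : ¬ p ∣ Nat.card {y : G // IsConj h.elt y} := by
    intro hd
    have h1 : p ∣ Nat.card h.supp := hs ▸ dvd_pow_self _ hs0
    rw [h.card_supp, Nat.dvd_add_right hd] at h1
    exact hp.out.one_lt.ne' (Nat.dvd_one.1 h1)
  rw [Sylow.card_eq_multiplicity, ← card_isConj h.elt, ← hcard, ht,
    Nat.factorization_mul hm0.ne' (pow_ne_zero _ hp.out.ne_zero)]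
  simp only [Finsupp.add_apply, Nat.factorization_eq_zero_of_not_dvd hpm, zero_add,
    hp.out.factorization_pow, Finsupp.single_eq_same]

end Cfsg.Agent.TwoClassChar
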