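/-
A solvable linear group in which every point stabiliser of a nonzero vector is a Sylow `p`-subgroup
has all commutators in a normal subgroup of order prime to `p` (`TwoClassChar.exists_commutator_core`).
-/
import Cfsg.Agent.Lib.CN.Frob
import Cfsg.Agent.Lib.Cores.Fitting
import Cfsg.Agent.Lib.Solvable.Fitting
import Cfsg.Agent.Lib.TI.Hall
import Cfsg.Agent.S5112
import Cfsg.Agent.S3742

set_option autoImplicit false
set_option linter.style.haveILetI false
set_option linter.unusedSectionVars false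

namespace Cfsg.Agent.TwoClassChar
open Cfsg Subgroup

variable {X V : Type*} [Group X] [CommGroup V] {p : ℕ} (φ : X →* MulAut V)

theorem card_mulAut_quaternion {Q : Type*} [Group Q] (e : Q ≃* QuaternionGroup 2) :
    Nat.card (MulAut Q) = 24 := by
  obtain ⟨f⟩ := S3742.result
  rw [Nat.card_congr ((MulAut.congr e).trans f).toEquiv, Nat.card_perm, Nat.card_fin]
  rfl

theorem commute_mulAut_of_isCyclic {Z : Type*} [Group Z] (h : IsCyclic Z) (a b : MulAut Z) :
    a * b = b * a := by
  apply MulEquiv.ext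
  intro x
  obtain ⟨g, hg⟩ := h.exists_generator
  obtain ⟨i, hi⟩ := Subgroup.mem_zpowers_iff.1 (hg (a g))
  obtain ⟨j, hj⟩ := Subgroup.mem_zpowers_iff.1 (hg (b g))
  obtain ⟨k, rfl⟩ := Subgroup.mem_zpowers_iff.1 (hg x)
  simp only [MulAut.mul_apply, map_zpow]
  rw [← hi, ← hj, map_zpow, map_zpow, ← hi, ← hj, ← zpow_mul, ← zpow_mul, ← zpow_mul, ← zpow_mul]
  congr 1
  ring

theorem eq_one_of_pow_eq_one {H : Type*} [Group H] {x : H} {m n : ℕ} (hm : x ^ m = 1)
    (hn : x ^ n = 1) (h : m.Coprime n) : x = 1 :=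
  orderOf_eq_one_iff.1
    (Nat.eq_one_of_dvd_coprimes h (orderOf_dvd_of_pow_eq_one hm) (orderOf_dvd_of_pow_eq_one hn))

theorem comm_of_card_three {H : Type*} [Group H] [Finite H] {a : ℕ} (ha : Nat.card H = 3 ^ a)
    (h24 : Nat.card H ∣ 24) (u v : H) : u * v = v * u := by
  rw [ha] at h24
  have ha1 : a ≤ 1 := by
    by_contra h
    exact absurd ((Nat.pow_dvd_pow 3 (show 2 ≤ a by omega)).trans h24) (by norm_num)
  rcases Nat.le_one_iff_eq_zero_or_eq_one.1 ha1 with rfl | rfl
  · have := (Nat.card_eq_one_iff_unique.1 (ha.trans (pow_zero 3))).1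
    exact Subsingleton.elim _ _
  · have : Fact (Nat.Prime 3) := ⟨by norm_num⟩
    have hc : IsCyclic H := isCyclic_of_prime_card (ha.trans (pow_one 3))
    obtain ⟨g, hg⟩ := hc.exists_generator
    obtain ⟨i, rfl⟩ := Subgroup.mem_zpowers_iff.1 (hg u)
    obtain ⟨j, rfl⟩ := Subgroup.mem_zpowers_iff.1 (hg v)
    rw [← zpow_add, ← zpow_add, add_comm]

/-- The vectors fixed by a subgroup. -/
def fixedBy (P : Subgroup X) : Subgroup V where
  carrier := {v | ∀ g ∈ P, φ g v = v}
  one_mem' := fun g _ => map_one _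
  mul_mem' := fun {a b} ha hb g hg => by rw [map_mul, ha g hg, hb g hg]
  inv_mem' := fun {a} ha g hg => by rw [map_inv, ha g hg]

theorem mem_fixedBy {P : Subgroup X} {v : V} : v ∈ fixedBy φ P ↔ ∀ g ∈ P, φ g v = v := Iff.rfl

/-- The point stabiliser. -/
def stab (v : V) : Subgroup X where
  carrier := {g | φ g v = v}
  one_mem' := by show φ 1 v = v; rw [map_one]; rfl
  mul_mem' := fun {a b} ha hb => by show φ (a * b) v = v; rw [map_mul, MulAut.mul_apply, hb, ha]
  inv_mem' := fun {a} ha => by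
    show φ a⁻¹ v = v
    nth_rw 1 [← (ha : φ a v = v)]
    rw [← MulAut.mul_apply, ← map_mul, inv_mul_cancel, map_one]; rfl

theorem mem_stab {g : X} {v : V} : g ∈ stab φ v ↔ φ g v = v := Iff.rfl

variable [Finite X] [Finite V] [hp : Fact p.Prime]

/-- The main lemma. -/
theorem exists_commutator_core [Group.IsSolvable X] [Nontrivial V] (hinj : Function.Injective φ)
    (hV : IsPGroup p V) (hsyl : ∀ v : V, v ≠ 1 → ∃ P : Sylow p X, (P : Subgroup X) = stab φ v) :
    ∃ K : Subgroup X, K.Normal ∧ ¬ p ∣ Nat.card K ∧ ∀ a b : X, a * b * a⁻¹ * b⁻¹ ∈ K := by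
  classical
  -- normal `p`-subgroups are trivial
  have hnp : ∀ L : Subgroup X, L.Normal → IsPGroup p L → L = ⊥ := by
    intro L hLn hL
    refine (Subgroup.eq_bot_iff_forall _).2 fun g hg => hinj ?_
    rw [map_one]
    refine MulEquiv.ext fun v => ?_
    by_cases hv : v = 1
    · rw [hv, map_one, map_one]
    obtain ⟨P, hP⟩ := hsyl v hv
    exact (hP ▸ (Cores.le_pCore hLn hL).trans (Cores.pCore_le_sylow P)) hg
  -- elements of order prime to `p` fix no vector
  have hfpf : ∀ g : X, (orderOf g).Coprime p → ∀ v, φ g v = v → v ≠ 1 → g = 1 := by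
    intro g hg v hgv hv
    obtain ⟨P, hP⟩ := hsyl v hv
    obtain ⟨k, hk⟩ := IsPGroup.iff_orderOf.1 P.2 ⟨g, hP ▸ hgv⟩
    rw [Subgroup.orderOf_mk] at hk
    rw [← orderOf_eq_one_iff, hk]
    rw [hk] at hg
    exact (Nat.coprime_self _).1 (hg.pow_right k)
  set F := Cfsg.fittingSubgroup X with hFdef
  have hFn : F.Normal := Subgroup.sSup_normal _ fun _ h => h.1
  have hFnil : Group.IsNilpotent F := Cores.fittingSubgroup_isNilpotent
  have hFp : ¬ p ∣ Nat.card F := by
    intro hd
    obtain ⟨R⟩ : Nonempty (Sylow p F) := inferInstance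
    have hRn : (R : Subgroup F).Normal :=
      ((Group.isNilpotent_of_finite_tfae (G := F)).out 0 3 rfl rfl).mp hFnil p inferInstance R
    have := Sylow.characteristic_of_normal _ hRn
    have hb := hnp _ (Cores.map_subtype_normal_of_characteristic F (R : Subgroup F))
      (R.2.map F.subtype)
    rw [Subgroup.map_eq_bot_iff_of_injective _ F.subtype_injective] at hb
    exact R.ne_bot_of_dvd_card hd hb
  have hcopF : ∀ g ∈ F, (orderOf g).Coprime p := fun g hg =>
    ((hp.out.coprime_iff_not_dvd.2 hFp).symm).coprime_dvd_left (Subgroup.orderOf_dvd_natCard F hg)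
  have hCF : centralizer (F : Set X) ≤ F := Solvable.centralizer_fitting_le X
  have hsc : Frobenius.SmallCyclic F := by
    refine TI.smallCyclic_of_fpf_aut (φ.comp F.subtype) ?_ ?_
    · obtain ⟨k, hk⟩ := IsPGroup.iff_card.1 hV
      rw [hk]
      exact Nat.Coprime.pow_right _ (hp.out.coprime_iff_not_dvd.2 hFp).symm
    · intro a ha v hv
      by_contra hv1
      exact ha (Subtype.ext (hfpf a (hcopF a a.2) v hv hv1))
  set Z := F ⊓ centralizer (F : Set X) with hZ
  have hZn : Z.Normal := inferInstance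
  have hZc : IsCyclic Z := by
    haveI : IsMulCommutative Z := ⟨⟨fun a b => Subtype.ext
      (Subgroup.mem_centralizer_iff.1 b.2.2 a a.2.1)⟩⟩
    exact (hsc.of_injective (f := Subgroup.inclusion (inf_le_left : Z ≤ F))
      (Subgroup.inclusion_injective _)).isCyclic_of_isMulCommutative
  set S := centralizer (Z : Set X) with hS
  have hSn : S.Normal := inferInstance
  have hcommS : ∀ a b : X, a * b * a⁻¹ * b⁻¹ ∈ S := by
    intro a b
    have h1 : (MulAut.conjNormal (a * b * a⁻¹ * b⁻¹) : MulAut Z) = 1 := by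
      rw [map_mul, map_mul, map_mul, map_inv, map_inv,
        commute_mulAut_of_isCyclic hZc (MulAut.conjNormal a)]
      group
    refine Subgroup.mem_centralizer_iff.2 fun z hz => ?_
    have h2 := MulAut.conjNormal_apply (a * b * a⁻¹ * b⁻¹) (⟨z, hz⟩ : Z)
    rw [h1, MulAut.one_apply] at h2
    exact eq_mul_inv_iff_mul_eq.1 h2
  by_cases hpS : p ∣ Nat.card S
  swap
  · exact ⟨S, hSn, hpS, hcommS⟩
  obtain ⟨y, hy⟩ := exists_prime_orderOf_dvd_card' p hpS
  have hyF : (y : X) ∉ F := fun hyF => by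
    have h1 : orderOf (y : X) ∣ Nat.card F := Subgroup.orderOf_dvd_natCard F hyF
    rw [Subgroup.orderOf_coe, hy] at h1
    exact hFp h1
  have hnab : ¬ (F ≤ centralizer (F : Set X)) := by
    intro h
    have : (y : X) ∈ centralizer (F : Set X) := by
      refine Subgroup.mem_centralizer_iff.2 fun f hf => ?_
      exact Subgroup.mem_centralizer_iff.1 y.2 f ⟨hf, h hf⟩
    exact hyF (hCF this)
  rcases CN.cyclic_or_quaternion hFnil hsc with hc | ⟨C, Q, hCQ, hcomm, hCcyc, hCodd, n, ⟨e⟩⟩
  · refine absurd (fun f hf => Subgroup.mem_centralizer_iff.2 fun g hg => ?_) hnab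
    obtain ⟨u, hu⟩ := hc.exists_generator
    obtain ⟨i, hi⟩ := Subgroup.mem_zpowers_iff.1 (hu ⟨f, hf⟩)
    obtain ⟨j, hj⟩ := Subgroup.mem_zpowers_iff.1 (hu ⟨g, hg⟩)
    have : (⟨g, hg⟩ : F) * ⟨f, hf⟩ = ⟨f, hf⟩ * ⟨g, hg⟩ := by
      rw [← hi, ← hj, ← zpow_add, ← zpow_add, add_comm]
    exact congrArg Subtype.val this
  have hCF' : C ≤ F := hCQ ▸ le_sup_left
  have hQF : Q ≤ F := hCQ ▸ le_sup_right
  have hmemF : ∀ f ∈ F, ∃ c ∈ C, ∃ q ∈ Q, c * q = f := by
    intro f hf
    have hn : C ≤ Subgroup.normalizer (Q : Set X) := by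
      refine le_trans ?_ (Subgroup.centralizer_le_normalizer _)
      exact fun c hc => Subgroup.mem_centralizer_iff.2 fun q hq => (hcomm c hc q hq).symm
    have hx : f ∈ ((C ⊔ Q : Subgroup X) : Set X) := hCQ.symm ▸ hf
    rwa [Subgroup.coe_mul_of_left_le_normalizer_right _ _ hn, Set.mem_mul] at hx
  have hCcomm : ∀ a ∈ C, ∀ b ∈ C, a * b = b * a := by
    intro a ha b hb
    obtain ⟨u, hu⟩ := hCcyc.exists_generator
    obtain ⟨i, hi⟩ := Subgroup.mem_zpowers_iff.1 (hu ⟨a, ha⟩)
    obtain ⟨j, hj⟩ := Subgroup.mem_zpowers_iff.1 (hu ⟨b, hb⟩)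
    have : (⟨a, ha⟩ : C) * ⟨b, hb⟩ = ⟨b, hb⟩ * ⟨a, ha⟩ := by
      rw [← hi, ← hj, ← zpow_add, ← zpow_add, add_comm]
    exact congrArg Subtype.val this
  have hCZ : C ≤ Z := fun c hc => ⟨hCF' hc, Subgroup.mem_centralizer_iff.2 fun f hf => by
    obtain ⟨c', hc', q, hq, rfl⟩ := hmemF f hf
    rw [mul_assoc, ← hcomm c hc q hq, ← mul_assoc, hCcomm c' hc' c hc, mul_assoc]⟩
  have hQcard : Nat.card Q = 2 ^ (n + 2) := by
    rw [Nat.card_congr e.toEquiv, Nat.card_eq_fintype_card, QuaternionGroup.card]; ring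
  have hQeq : ∀ f ∈ F, f ^ 2 ^ (n + 2) = 1 → f ∈ Q := by
    intro f hf hf1
    obtain ⟨c, hc, q, hq, rfl⟩ := hmemF f hf
    have hqp : q ^ 2 ^ (n + 2) = 1 := hQcard ▸ orderOf_dvd_iff_pow_eq_one.1
      (Subgroup.orderOf_dvd_natCard Q hq)
    rw [(show Commute c q from hcomm c hc q hq).mul_pow, hqp, mul_one] at hf1
    have : c = 1 := eq_one_of_pow_eq_one
      (orderOf_dvd_iff_pow_eq_one.1 (Subgroup.orderOf_dvd_natCard C hc)) hf1
      (Nat.Coprime.pow_right _ (Nat.coprime_two_right.2 hCodd))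
    rwa [this, one_mul]
  have hQn : Q.Normal := ⟨fun q hq g => hQeq _ (hFn.conj_mem q (hQF hq) g) (by
    rw [conj_pow, show q ^ 2 ^ (n + 2) = 1 from hQcard ▸ orderOf_dvd_iff_pow_eq_one.1
      (Subgroup.orderOf_dvd_natCard Q hq)]; group)⟩
  have hp2 : p ≠ 2 := by
    rintro rfl
    exact hFp (((dvd_pow_self 2 (by omega)).trans hQcard.symm.dvd).trans
      (Subgroup.card_dvd_of_le hQF))
  -- the action of `S` on `Q`
  let ψ : S →* MulAut Q := (MulAut.conjNormal : X →* MulAut Q).comp S.subtype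
  have hker : ∀ s : S, ψ s = 1 → (s : X) ∈ Z := by
    intro s hs
    have hsQ : ∀ q ∈ Q, q * (s : X) = s * q := fun q hq => by
      have h2 := MulAut.conjNormal_apply (s : X) (⟨q, hq⟩ : Q)
      rw [show (MulAut.conjNormal (s : X) : MulAut Q) = 1 from hs, MulAut.one_apply] at h2
      exact eq_mul_inv_iff_mul_eq.1 h2
    have hsC : (s : X) ∈ centralizer (F : Set X) := by
      refine Subgroup.mem_centralizer_iff.2 fun f hf => ?_
      obtain ⟨c, hc, q, hq, rfl⟩ := hmemF f hf
      rw [mul_assoc, hsQ q hq, ← mul_assoc, Subgroup.mem_centralizer_iff.1 s.2 c (hCZ hc),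
        mul_assoc]
    exact ⟨hCF hsC, hsC⟩
  have hψy : ψ y ≠ 1 := fun h => hyF (hker y h).1
  have hoy : orderOf (ψ y) = p := orderOf_eq_prime (by
    rw [← map_pow, ← hy, pow_orderOf_eq_one, map_one]) hψy
  have hn1 : n = 1 := by
    rcases Nat.lt_or_ge n 1 with hn0 | hn1
    · exfalso
      obtain rfl : n = 0 := by omega
      refine hnab fun f hf => Subgroup.mem_centralizer_iff.2 fun g hg => ?_
      have hQc : ∀ a ∈ Q, ∀ b ∈ Q, a * b = b * a := by
        intro a ha b hb
        have hd : ∀ u v : QuaternionGroup 1, u * v = v * u := by decide +kernel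
        exact congrArg Subtype.val (e.injective (a₁ := (⟨a, ha⟩ : Q) * ⟨b, hb⟩)
          (a₂ := ⟨b, hb⟩ * ⟨a, ha⟩) (by simp only [map_mul]; exact hd _ _))
      obtain ⟨c, hc, q, hq, rfl⟩ := hmemF f hf
      obtain ⟨c', hc', q', hq', rfl⟩ := hmemF g hg
      rw [mul_assoc c' q', ← mul_assoc q' c q, ← hcomm c hc q' hq', mul_assoc c q', hQc q' hq' q hq,
        ← mul_assoc c' c, hCcomm c' hc' c hc, mul_assoc c c', ← mul_assoc c' q q',
        hcomm c' hc' q hq, mul_assoc q c' q', ← mul_assoc c q]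
    · rcases Nat.lt_or_ge n 2 with hn2 | hn2
      · omega
      exfalso
      obtain ⟨k, hk⟩ := IsPGroup.iff_orderOf.1
        (S5112.aut_congr e (S5112.aut_quaternion n hn2)) (ψ y)
      rw [hoy] at hk
      exact hp2 ((Nat.prime_dvd_prime_iff_eq hp.out Nat.prime_two).1
        (hp.out.dvd_of_dvd_pow (dvd_of_eq hk)))
  subst hn1
  have hAut : Nat.card (MulAut Q) = 24 := card_mulAut_quaternion e
  haveI : Finite (MulAut Q) := Nat.finite_of_card_ne_zero (by omega)
  have hp24 : p ∣ 24 := hAut ▸ hoy ▸ orderOf_dvd_natCard (ψ y)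
  obtain rfl : p = 3 := by
    have h2 : p ∣ 2 ^ 3 * 3 := hp24
    rcases hp.out.dvd_mul.1 h2 with h | h
    · exact absurd ((Nat.prime_dvd_prime_iff_eq hp.out Nat.prime_two).1 (hp.out.dvd_of_dvd_pow h))
        hp2
    · exact (Nat.prime_dvd_prime_iff_eq hp.out (by norm_num)).1 h
  -- at most four Sylow subgroups of `S`
  let f := ψ.rangeRestrict
  have hf : Function.Surjective f := ψ.rangeRestrict_surjective
  have h3R : 3 ∣ Nat.card ψ.range :=
    hoy ▸ Subgroup.orderOf_dvd_natCard ψ.range ⟨y, rfl⟩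
  have hmap : Function.Injective fun P : Sylow 3 S => P.mapSurjective hf := by
    intro P P' hPP
    have hle : (P : Subgroup S).map f ≤ (P' : Subgroup S).map f := by
      have := congrArg (fun R : Sylow 3 ψ.range => (R : Subgroup ψ.range)) hPP
      simp only [Sylow.coe_mapSurjective] at this
      exact this.le
    refine Sylow.ext (P.3 P'.2 fun a ha => ?_).symm
    obtain ⟨b, hb, hab⟩ := hle ⟨a, ha, rfl⟩
    have hz : ψ (a * b⁻¹) = 1 := by
      have := congrArg Subtype.val hab
      simp only [f, MonoidHom.coe_rangeRestrict] at this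
      rw [map_mul, map_inv, this, mul_inv_cancel]
    have hzZ := hker _ hz
    -- `z = a * b⁻¹` is central in `S`
    have hzc : ∀ s : S, Commute (a * b⁻¹) s := fun s => by
      apply Subtype.ext
      exact Subgroup.mem_centralizer_iff.1 s.2 _ hzZ
    have hab' : Commute a b := by
      have h1 := hzc b
      rw [Commute, SemiconjBy, inv_mul_cancel_right, ← mul_assoc] at h1
      have h2 := congrArg (· * b) h1
      simp only [inv_mul_cancel_right] at h2
      exact h2
    obtain ⟨i, hi⟩ := IsPGroup.iff_orderOf.1 P.2 ⟨a, ha⟩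
    obtain ⟨j, hj⟩ := IsPGroup.iff_orderOf.1 P'.2 ⟨b, hb⟩
    rw [Subgroup.orderOf_mk] at hi hj
    have hpow : (a * b⁻¹) ^ 3 ^ (i + j) = 1 := by
      rw [hab'.inv_right.mul_pow, inv_pow,
        orderOf_dvd_iff_pow_eq_one.1 (hi ▸ pow_dvd_pow 3 (Nat.le_add_right i j)),
        orderOf_dvd_iff_pow_eq_one.1 (hj ▸ pow_dvd_pow 3 (Nat.le_add_left j i))]
      simp
    have h1 : a * b⁻¹ = 1 := by
      apply Subtype.ext
      refine eq_one_of_pow_eq_one (congrArg Subtype.val hpow)
        (orderOf_dvd_iff_pow_eq_one.1 (Subgroup.orderOf_dvd_natCard F hzZ.1)) ?_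
      exact Nat.Coprime.pow_left _ (hp.out.coprime_iff_not_dvd.2 hFp)
    exact (mul_inv_eq_one.1 h1) ▸ hb
  have hn0 : Nat.card (Sylow 3 S) ≤ 4 := by
    refine (Nat.card_le_card_of_injective _ hmap).trans ?_
    obtain ⟨R⟩ : Nonempty (Sylow 3 ψ.range) := inferInstance
    have h1 := R.card_dvd_index
    have h2 : Nat.card ψ.range ∣ 24 := hAut ▸ Subgroup.card_subgroup_dvd_card _
    have h3 : (3 : ℕ) ∣ Nat.card (R : Subgroup ψ.range) := R.dvd_card_of_dvd_card h3R
    have h4 := (R : Subgroup ψ.range).card_mul_index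
    have h5 : 3 * (R : Subgroup ψ.range).index ∣ 3 * 8 :=
      ((mul_dvd_mul_right h3 _).trans h4.dvd).trans h2
    have h6 := h1.trans (Nat.dvd_of_mul_dvd_mul_left (by norm_num) h5)
    have h7 := card_sylow_modEq_one 3 ψ.range
    have h8 := Nat.le_of_dvd (by norm_num) h6
    unfold Nat.ModEq at h7
    by_contra h9
    interval_cases hN : Nat.card (Sylow 3 ψ.range) <;> omega
  -- fixed vectors
  let C0 : Sylow 3 S → Subgroup V := fun P => fixedBy φ ((P : Subgroup S).map S.subtype)
  have hcover : ∀ v : V, v ≠ 1 → ∃ P : Sylow 3 S, v ∈ C0 P ∧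
      (stab φ v).comap S.subtype = P := by
    intro v hv
    obtain ⟨P, hP⟩ := hsyl v hv
    obtain ⟨P0, hle⟩ := (P.2.comap_of_injective S.subtype S.subtype_injective).exists_le_sylow
    obtain ⟨P1, hle1⟩ := (P0.2.map S.subtype).exists_le_sylow
    obtain ⟨g, hg⟩ := MulAction.exists_smul_eq X P P1
    have hc : Nat.card ((P : Subgroup X).comap S.subtype) = Nat.card P0 := by
      refine le_antisymm (Subgroup.card_le_of_le hle) ?_
      have hg' : ∀ s : S, (s : X) ∈ (P1 : Subgroup X) → g⁻¹ * (s : X) * g ∈ (P : Subgroup X) := by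
        intro s hs
        have hs' : (s : X) ∈ ((g • P : Sylow 3 X) : Subgroup X) := hg.symm ▸ hs
        rw [Sylow.coe_subgroup_smul, Subgroup.mem_pointwise_smul_iff_inv_smul_mem] at hs'
        simpa [MulAut.smul_def] using hs'
      refine Nat.card_le_card_of_injective
        (fun s : (P0 : Subgroup S) => (⟨⟨g⁻¹ * ((s : S) : X) * g, by
          have := hSn.conj_mem _ (s : S).2 g⁻¹
          rwa [inv_inv] at this⟩, hg' s (hle1 ⟨s, s.2, rfl⟩)⟩ :
            (P : Subgroup X).comap S.subtype)) ?_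
      intro s t hst
      have h1 := congrArg (fun u : (P : Subgroup X).comap S.subtype => ((u : S) : X)) hst
      exact Subtype.ext (Subtype.ext (mul_left_cancel (mul_right_cancel h1)))
    have heq : (P : Subgroup X).comap S.subtype = P0 :=
      Subgroup.eq_of_le_of_card_ge hle hc.ge
    refine ⟨P0, ?_, hP ▸ heq⟩
    rintro g' ⟨s, hs, rfl⟩
    have hs' : s ∈ (P : Subgroup X).comap S.subtype := heq ▸ hs
    rw [Subgroup.mem_comap, hP] at hs'
    exact hs'
  have huniq : ∀ v : V, v ≠ 1 → ∀ P P' : Sylow 3 S, v ∈ C0 P → v ∈ C0 P' → P = P' := by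
    intro v hv P P' h1 h2
    obtain ⟨R, -, hR⟩ := hcover v hv
    have aux : ∀ P : Sylow 3 S, v ∈ C0 P → R = P := fun P h1 =>
      Sylow.ext (P.3 R.2 fun s hs => hR ▸ h1 _ ⟨s, hs, rfl⟩)
    exact (aux P h1).symm.trans (aux P' h2)
  have hcardC : ∀ P P' : Sylow 3 S, Nat.card (C0 P) ≤ Nat.card (C0 P') := by
    intro P P'
    obtain ⟨s, hs⟩ := MulAction.exists_smul_eq S P P'
    refine Nat.card_le_card_of_injective
      (fun v : C0 P => (⟨φ (s : X) v, ?_⟩ : C0 P')) ?_
    · rintro g ⟨t, ht, rfl⟩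
      have ht' : t ∈ ((s • P : Sylow 3 S) : Subgroup S) := hs.symm ▸ ht
      rw [Sylow.coe_subgroup_smul, Subgroup.mem_pointwise_smul_iff_inv_smul_mem] at ht'
      have ht'' : s⁻¹ * t * s ∈ (P : Subgroup S) := by simpa [MulAut.smul_def] using ht'
      have h1 := v.2 _ ⟨_, ht'', rfl⟩
      have h2 := congrArg (φ (s : X)) h1
      rw [← MulAut.mul_apply, ← map_mul] at h2
      have e2 : (s : X) * ((s⁻¹ * t * s : S) : X) = (t : X) * s := by
        simp [mul_assoc]
      rw [Subgroup.coe_subtype, e2, map_mul, MulAut.mul_apply] at h2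
      exact h2
    · intro u v huv
      exact Subtype.ext ((φ (s : X)).injective (congrArg Subtype.val huv))
  obtain ⟨P₀⟩ : Nonempty (Sylow 3 S) := inferInstance
  obtain ⟨v₀, hv₀⟩ := exists_ne (1 : V)
  set c := Nat.card (C0 P₀) with hc
  have hc2 : 2 ≤ c := by
    obtain ⟨R, hR, -⟩ := hcover v₀ hv₀
    have : Nontrivial (C0 R) := ⟨⟨v₀, hR⟩, 1, fun e => hv₀ (congrArg Subtype.val e)⟩
    have := Finite.one_lt_card (α := C0 R)
    exact le_trans this (hcardC R P₀)
  obtain ⟨P₁, hP₁⟩ : ∃ P₁ : Sylow 3 S, P₁ ≠ P₀ := by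
    by_contra! hall
    have hsub : Subsingleton (Sylow 3 S) := ⟨fun a b => (hall a).trans (hall b).symm⟩
    have hall' : ∀ v, ∀ g ∈ (P₀ : Subgroup S).map S.subtype, φ g v = v := by
      intro v
      by_cases hv : v = 1
      · intro g _; rw [hv, map_one]
      · obtain ⟨R, hR, -⟩ := hcover v hv
        exact hall R ▸ hR
    have hb : (P₀ : Subgroup S) = ⊥ := (Subgroup.eq_bot_iff_forall _).2 fun s hs =>
      Subtype.ext (hinj (by
        rw [Subgroup.coe_one, map_one]
        exact MulEquiv.ext fun v => hall' v _ ⟨s, hs, rfl⟩))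
    exact P₀.ne_bot_of_dvd_card hpS hb
  have hlow : c * c ≤ Nat.card V := by
    calc c * c ≤ Nat.card (C0 P₀) * Nat.card (C0 P₁) := Nat.mul_le_mul_left _ (hcardC P₀ P₁)
      _ = Nat.card (C0 P₀ × C0 P₁) := (Nat.card_prod _ _).symm
      _ ≤ Nat.card V := Nat.card_le_card_of_injective _ (Subgroup.mul_injective_of_disjoint
        (disjoint_iff.2 ((Subgroup.eq_bot_iff_forall _).2 fun v hv => by
          by_contra h; exact hP₁ (huniq v h _ _ hv.2 hv.1))))
  have hup : Nat.card V ≤ 4 * (c - 1) + 1 := by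
    haveI := Fintype.ofFinite V
    haveI := Fintype.ofFinite (Sylow 3 S)
    have hsub : (Finset.univ.erase (1 : V)) ⊆ Finset.univ.biUnion
        (fun P : Sylow 3 S => (Finset.univ.filter fun v => v ∈ C0 P).erase 1) := by
      intro v hv
      have hv1 := (Finset.mem_erase.1 hv).1
      obtain ⟨R, hR, -⟩ := hcover v hv1
      exact Finset.mem_biUnion.2 ⟨R, Finset.mem_univ _, Finset.mem_erase.2
        ⟨hv1, Finset.mem_filter.2 ⟨Finset.mem_univ _, hR⟩⟩⟩
    have h1 := (Finset.card_le_card hsub).trans Finset.card_biUnion_le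
    have h2 : ∀ P : Sylow 3 S,
        ((Finset.univ.filter fun v => v ∈ C0 P).erase 1).card ≤ c - 1 := by
      intro P
      rw [Finset.card_erase_of_mem (by simp [one_mem]), ← Fintype.card_subtype,
        ← Nat.card_eq_fintype_card]
      exact Nat.sub_le_sub_right (hcardC P P₀) 1
    have h3 := h1.trans (Finset.sum_le_card_nsmul _ _ _ fun P _ => h2 P)
    rw [Finset.card_erase_of_mem (Finset.mem_univ _), Finset.card_univ, Finset.card_univ,
      ← Nat.card_eq_fintype_card, ← Nat.card_eq_fintype_card, smul_eq_mul] at h3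
    have h4 : Nat.card (Sylow 3 S) * (c - 1) ≤ 4 * (c - 1) := Nat.mul_le_mul_right _ hn0
    omega
  have hV9 : Nat.card V ≤ 9 := by
    have : c ≤ 3 := by
      by_contra h
      have h4 : 4 * c ≤ c * c := Nat.mul_le_mul_right _ (by omega)
      omega
    omega
  -- the end: `F = Q` is a complement of `stab v₀`
  obtain ⟨P, hP⟩ := hsyl v₀ hv₀
  have horb : (P : Subgroup X).index ≤ 8 := by
    have hi : Nat.card (X ⧸ stab φ v₀) ≤ Nat.card {v : V // v ≠ 1} := by
      refine Nat.card_le_card_of_injective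
        (Quotient.lift (fun g : X => (⟨φ g v₀, fun e => hv₀ ((φ g).injective (by simpa using e))⟩ :
          {v : V // v ≠ 1})) ?_) ?_
      · intro a b hab
        replace hab := QuotientGroup.leftRel_apply.1 hab
        rw [mem_stab, map_mul, MulAut.mul_apply] at hab
        apply Subtype.ext
        have := congrArg (φ a) hab
        rw [← MulAut.mul_apply, ← map_mul, mul_inv_cancel, map_one, MulAut.one_apply] at this
        exact this.symm
      · intro a b
        refine Quotient.inductionOn₂ a b fun x z hxz => Quotient.sound ?_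
        have hxz' : φ x v₀ = φ z v₀ := congrArg Subtype.val hxz
        show (QuotientGroup.leftRel _).r x z
        rw [QuotientGroup.leftRel_apply, mem_stab, map_mul, MulAut.mul_apply, ← hxz',
          ← MulAut.mul_apply, ← map_mul, inv_mul_cancel, map_one]
        rfl
    rw [hP, Subgroup.index_eq_card]
    haveI := Fintype.ofFinite V
    rw [Nat.card_eq_fintype_card (α := {v : V // v ≠ 1}), Fintype.card_subtype_compl,
      Fintype.card_subtype_eq, ← Nat.card_eq_fintype_card] at hi
    omega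
  have hdisj : Disjoint F (P : Subgroup X) := disjoint_iff.2 ((Subgroup.eq_bot_iff_forall _).2
    fun g hg => hfpf g (hcopF g hg.1) v₀ (mem_stab φ |>.1 (hP ▸ hg.2)) hv₀)
  have hprod : Nat.card F * Nat.card (P : Subgroup X) ≤ Nat.card X := by
    rw [← Nat.card_prod]
    exact Nat.card_le_card_of_injective _ (Subgroup.mul_injective_of_disjoint hdisj)
  rw [← (P : Subgroup X).card_mul_index] at hprod
  have hFle : Nat.card F ≤ (P : Subgroup X).index :=
    Nat.le_of_mul_le_mul_left (by rwa [mul_comm (Nat.card F)] at hprod) Nat.card_pos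
  have hQle : Nat.card Q ≤ Nat.card F := Subgroup.card_le_of_le hQF
  rw [hQcard] at hQle
  have hQeqF : Q = F := Subgroup.eq_of_le_of_card_ge hQF (by rw [hQcard]; omega)
  have hFidx : F.index = Nat.card (P : Subgroup X) := by
    have h1 := F.card_mul_index
    rw [← (P : Subgroup X).card_mul_index] at h1
    have h2 : Nat.card F = (P : Subgroup X).index := by omega
    rw [← h2, mul_comm (Nat.card (P : Subgroup X))] at h1
    exact Nat.eq_of_mul_eq_mul_left Nat.card_pos h1
  refine ⟨F, hFn, hFp, ?_⟩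
  let r : (P : Subgroup X) →* X ⧸ F := (QuotientGroup.mk' F).comp (P : Subgroup X).subtype
  have hr : Function.Bijective r := by
    refine (Nat.bijective_iff_injective_and_card r).2 ⟨?_, by
      rw [← Subgroup.index_eq_card, hFidx]⟩
    rw [injective_iff_map_eq_one]
    intro a ha
    exact Subtype.ext (Subgroup.disjoint_def.1 hdisj ((QuotientGroup.eq_one_iff _).1 ha) a.2)
  have hPcomm : ∀ a b : (P : Subgroup X), a * b = b * a := by
    obtain ⟨k, hk⟩ := IsPGroup.iff_card.1 P.2
    refine comm_of_card_three hk ?_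
    let ρ : (P : Subgroup X) →* MulAut Q := (MulAut.conjNormal : X →* MulAut Q).comp (P : Subgroup X).subtype
    have hρ : Function.Injective ρ := by
      rw [injective_iff_map_eq_one]
      intro a ha
      have hc : (a : X) ∈ centralizer (F : Set X) := by
        refine Subgroup.mem_centralizer_iff.2 fun q hq => ?_
        have h2 := MulAut.conjNormal_apply (a : X) (⟨q, hQeqF ▸ hq⟩ : Q)
        rw [show (MulAut.conjNormal (a : X) : MulAut Q) = 1 from ha, MulAut.one_apply] at h2
        exact eq_mul_inv_iff_mul_eq.1 h2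
      exact Subtype.ext (Subgroup.disjoint_def.1 hdisj (hCF hc) a.2)
    exact hAut ▸ Subgroup.card_dvd_of_injective ρ hρ
  intro a b
  rw [← QuotientGroup.eq_one_iff]
  obtain ⟨a', ha'⟩ := hr.2 (a : X ⧸ F)
  obtain ⟨b', hb'⟩ := hr.2 (b : X ⧸ F)
  simp only [QuotientGroup.mk_mul, QuotientGroup.mk_inv]
  rw [← ha', ← hb', ← map_mul, hPcomm, map_mul]
  group

/-- The wrap-up: a normal `p'`-subgroup containing all commutators gives a normal `p`-complement
and commutative Sylow `p`-subgroups. -/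
theorem complement_of_commutator_core {K : Subgroup X} (hKn : K.Normal)
    (hK : ¬ p ∣ Nat.card K) (hcomm : ∀ a b : X, a * b * a⁻¹ * b⁻¹ ∈ K) :
    Cfsg.HasNormalPComplement p X ∧
      ∀ P : Sylow p X, IsMulCommutative (P : Subgroup X) := by
  refine ⟨?_, fun P => ⟨⟨fun a b => ?_⟩⟩⟩
  · obtain ⟨P⟩ : Nonempty (Sylow p X) := inferInstance
    let π := QuotientGroup.mk' K
    have hπ : Function.Surjective π := QuotientGroup.mk'_surjective K
    let R := P.mapSurjective hπ
    have hab : ∀ u v : X ⧸ K, u * v = v * u := by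
      intro u v
      induction u using QuotientGroup.induction_on with
      | _ a =>
        induction v using QuotientGroup.induction_on with
        | _ b =>
          rw [← mul_inv_eq_one, mul_inv_rev, ← mul_assoc]
          exact (QuotientGroup.eq_one_iff _).2 (hcomm a b)
    haveI : (R : Subgroup (X ⧸ K)).Normal := ⟨fun u hu g => by
      rwa [hab g u, mul_inv_cancel_right]⟩
    obtain ⟨B, hB⟩ := Subgroup.exists_right_complement'_of_coprime
      (N := (R : Subgroup (X ⧸ K))) R.card_coprime_index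
    haveI hBn : B.Normal := ⟨fun u hu g => by rwa [hab g u, mul_inv_cancel_right]⟩
    have hBc : ¬ p ∣ Nat.card B := by
      rw [← hB.symm.index_eq_card]; exact R.not_dvd_index
    have hcardB : Nat.card (B.comap π) = Nat.card K * Nat.card B := by
      have h := Cores.card_map_mul_ker π (B.comap π) (by
        rw [← MonoidHom.comap_bot]; exact Subgroup.comap_mono bot_le)
      rw [Subgroup.map_comap_eq_self_of_surjective hπ, QuotientGroup.ker_mk'] at h
      rw [← h, mul_comm]
    have hidx : (B.comap π).index = Nat.card (R : Subgroup (X ⧸ K)) := by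
      rw [Subgroup.index_comap_of_surjective _ hπ]; exact hB.index_eq_card
    have hPR : Nat.card (P : Subgroup X) = Nat.card (R : Subgroup (X ⧸ K)) := by
      rw [Sylow.coe_mapSurjective]
      refine (Nat.card_congr (Equiv.ofBijective
        (fun a : (P : Subgroup X) => (⟨π a, a, a.2, rfl⟩ : (P : Subgroup X).map π)) ⟨?_, ?_⟩))
      · intro a b hab'
        have h1 := congrArg Subtype.val hab'
        have h2 : (a : X)⁻¹ * b ∈ K := QuotientGroup.eq.1 h1
        obtain ⟨k, hk⟩ := IsPGroup.iff_card.1 P.2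
        exact Subtype.ext (inv_mul_eq_one.1 (eq_one_of_pow_eq_one
          (orderOf_dvd_iff_pow_eq_one.1 (Subgroup.orderOf_dvd_natCard (P : Subgroup X)
            (mul_mem (inv_mem a.2) b.2)))
          (orderOf_dvd_iff_pow_eq_one.1 (Subgroup.orderOf_dvd_natCard K h2))
          (hk ▸ Nat.Coprime.pow_left _ (hp.out.coprime_iff_not_dvd.2 hK))))
      · rintro ⟨_, a, ha, rfl⟩; exact ⟨⟨a, ha⟩, rfl⟩
    refine ⟨P, B.comap π, inferInstance, Subgroup.isComplement'_of_coprime ?_ ?_⟩
    · rw [hPR, ← hidx, Subgroup.card_mul_index]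
    · obtain ⟨k, hk⟩ := IsPGroup.iff_card.1 P.2
      rw [hk, hcardB]
      exact Nat.Coprime.pow_right _ (Nat.Coprime.symm (hp.out.coprime_iff_not_dvd.2
        fun h => (hp.out.dvd_mul.1 h).elim hK hBc))
  · apply Subtype.ext
    have h := hcomm a b
    have hcm : (a : X) * b * (a : X)⁻¹ * (b : X)⁻¹ = 1 := by
      obtain ⟨k, hk⟩ := IsPGroup.iff_card.1 P.2
      exact eq_one_of_pow_eq_one
        (orderOf_dvd_iff_pow_eq_one.1 (Subgroup.orderOf_dvd_natCard (P : Subgroup X)
          (mul_mem (mul_mem (mul_mem a.2 b.2) (inv_mem a.2)) (inv_mem b.2))))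
        (orderOf_dvd_iff_pow_eq_one.1 (Subgroup.orderOf_dvd_natCard K h))
        (hk ▸ Nat.Coprime.pow_left _ (hp.out.coprime_iff_not_dvd.2 hK))
    show (a : X) * b = b * a
    rw [mul_inv_eq_one, mul_inv_eq_iff_eq_mul] at hcm
    exact hcm

end Cfsg.Agent.TwoClassChar
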